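import Cfsg.Agent.H26.HallExtend
import Cfsg.Agent.CharInduce.Gallagher
import Cfsg.Agent.CharInduce.Correspondence
import Cfsg.Agent.CharInduce.Transport

/-!
# Peterfalvi (1.7): inducing through an abelian inertia quotient
-/

set_option autoImplicit false

namespace Cfsg.Agent.OddOrder.PF1

open scoped ComplexConjugate
open Cfsg.Agent.CharBasic Cfsg.Agent.CharInduce Finset

universe u

variable {G : Type u} [Group G] [Fintype G] (N : Subgroup G) [N.Normal]

/-- The norm of an induced irreducible character is the inertia index over `N`. -/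
theorem classInner_indFun_self [Fintype N] {χ : N → ℂ} (hχ : Cfsg.IsIrrCharacter N χ) :
    Cfsg.classInner (indFun N χ) (indFun N χ) =
      (Nat.card N : ℂ)⁻¹ * (Nat.card (inertia N χ) : ℂ) := by
  classical
  rw [classInner_indFun_left N χ _ (isClassFunction_indFun N χ), indFun_res_normal,
    CharBasic.classInner_smul_right, CharBasic.classInner_sum_right, map_inv₀, map_natCast]
  congr 1
  simp only [classInner_irr hχ (isIrrCharacter_conjFun N hχ _), sum_boole]
  rw [Nat.card_eq_fintype_card (α := inertia N χ), Fintype.card_subtype]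
  congr 2
  ext x
  simp [mem_inertia, eq_comm]

/-- Inducing a restriction. -/
theorem indFun_res_mul {η : G → ℂ} (hη : Cfsg.IsClassFunction G η) :
    indFun N (fun n : N => η n) = indFun N (fun _ => 1) * η := by
  rw [← indFun_mul_res N (fun _ => 1) η hη]
  simp

/-- The characters above an invariant character with abelian quotient. -/
theorem invariant_structure [Fintype N] (hab : ∀ x y : G, x * y * x⁻¹ * y⁻¹ ∈ N) {χ : N → ℂ}
    (hχ : Cfsg.IsIrrCharacter N χ) (hinv : ∀ x : G, conjFun N χ x = χ) :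
    ∃ (e : ℕ) (C : Finset (Cfsg.IrrCharacter G)), 0 < e ∧ e ^ 2 * C.card = N.index ∧
      indFun N χ = (e : ℂ) • ∑ ψ ∈ C, (ψ : G → ℂ) ∧
      (∀ ψ ∈ C, Cfsg.classInner (fun n : N => (ψ : G → ℂ) n) χ = e ∧
        (ψ : G → ℂ) 1 = (e : ℂ) * χ 1) ∧
      ∀ ψ : Cfsg.IrrCharacter G, Cfsg.classInner (fun n : N => (ψ : G → ℂ) n) χ ≠ 0 → ψ ∈ C := by
  classical
  haveI : Fintype (G ⧸ N) := Fintype.ofFinite _
  choose e he using fun ψ : Cfsg.IrrCharacter G =>
    classInner_isChar_nat (IsChar.res (IsIrr.isCharacter ψ.2) N) (IsIrr.isCharacter hχ)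
  set C := univ.filter fun ψ : Cfsg.IrrCharacter G => e ψ ≠ 0 with hC
  have hres : ∀ ψ ∈ C, (fun n : N => (ψ : G → ℂ) n) = (e ψ : ℂ) • χ := fun ψ hψ => by
    rw [← he ψ]
    exact res_eq_smul_of_invariant N ψ.2 hχ hinv (by rw [he ψ]; exact_mod_cast (mem_filter.1 hψ).2)
  have habQ : ∀ a b : G ⧸ N, a * b = b * a := by
    intro a b
    obtain ⟨x, rfl⟩ := QuotientGroup.mk_surjective a
    obtain ⟨y, rfl⟩ := QuotientGroup.mk_surjective b
    rw [← mul_inv_eq_one, mul_inv_rev, ← QuotientGroup.mk_mul, ← QuotientGroup.mk_inv,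
      ← QuotientGroup.mk_inv, ← QuotientGroup.mk_mul, ← QuotientGroup.mk_mul,
      QuotientGroup.eq_one_iff, ← mul_assoc]
    exact hab x y
  have hlin : ∀ β : Cfsg.IrrCharacter (G ⧸ N), ∀ q, (β : G ⧸ N → ℂ) q * conj ((β : G ⧸ N → ℂ) q) = 1 := by
    intro β q
    obtain ⟨l, hl⟩ := IsChar.exists_hom_of_degree_one (IsIrr.isCharacter β.2)
      ((commutative_iff_forall_linear (G := G ⧸ N)).1 habQ β)
    rw [hl, Complex.mul_conj', norm_hom]
    simp
  have hdeg : ∀ ψ ∈ C, ∀ ψ' ∈ C, e ψ' = e ψ := by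
    intro ψ hψ ψ' hψ'
    have h := H81.classInner_res_eq_sum N (ψ' : G → ℂ) (ψ : G → ℂ)
    rw [hres ψ hψ, hres ψ' hψ', CharBasic.classInner_smul_left, CharBasic.classInner_smul_right,
      classInner_irr_self hχ, map_natCast, mul_one] at h
    obtain ⟨β, -, hβ⟩ := exists_ne_zero_of_sum_ne_zero (h ▸ mul_ne_zero
      (Nat.cast_ne_zero.2 (mem_filter.1 hψ').2) (Nat.cast_ne_zero.2 (mem_filter.1 hψ).2) :
      (∑ β : Cfsg.IrrCharacter (G ⧸ N), _) ≠ (0 : ℂ))
    have hc : Cfsg.IsCharacter G (fun g => (ψ : G → ℂ) g * H81.inflate N β g) :=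
      IsChar.mul (IsIrr.isCharacter ψ.2) (IsIrr.isCharacter (H81.isIrr_inflate N β))
    have hirr : Cfsg.IsIrrCharacter G (fun g => (ψ : G → ℂ) g * H81.inflate N β g) := by
      refine CharInduce.isIrr_of_norm_one hc ?_
      rw [← classInner_irr_self ψ.2]
      simp only [classInner_def, map_mul]
      congr 1
      refine sum_congr rfl fun g _ => ?_
      rw [mul_mul_mul_comm, show H81.inflate N β g * conj (H81.inflate N β g) = 1 from hlin β _,
        mul_one]
    have heq : (ψ' : G → ℂ) = fun g => (ψ : G → ℂ) g * H81.inflate N β g := by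
      by_contra hne
      exact right_ne_zero_of_mul hβ (classInner_irr_of_ne ψ'.2 hirr hne)
    have h1 : (ψ' : G → ℂ) 1 = (ψ : G → ℂ) 1 := by
      rw [heq]
      simp [H81.inflate, (commutative_iff_forall_linear (G := G ⧸ N)).1 habQ β]
    have a := congrFun (hres ψ hψ) 1
    have b := congrFun (hres ψ' hψ') 1
    simp only [OneMemClass.coe_one, Pi.smul_apply, smul_eq_mul] at a b
    rw [h1, a] at b
    exact_mod_cast (mul_right_cancel₀ (IsIrr.one_ne_zero hχ) b).symm
  have hexp : indFun N χ = ∑ ψ : Cfsg.IrrCharacter G, (e ψ : ℂ) • (ψ : G → ℂ) := by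
    conv_lhs => rw [classFunction_expansion (isClassFunction_indFun N χ)]
    refine sum_congr rfl fun ψ _ => ?_
    rw [classInner_indFun_left N χ _ (IsIrr.isClassFunction ψ.2), ← conj_classInner, he,
      Complex.conj_natCast]
  have hexpC : indFun N χ = ∑ ψ ∈ C, (e ψ : ℂ) • (ψ : G → ℂ) := by
    rw [hexp]
    exact (sum_filter_of_ne fun ψ _ h => by intro h0; exact h (by rw [h0, Nat.cast_zero, zero_smul])).symm
  obtain ⟨ψ₀, hψ₀⟩ : C.Nonempty := by
    by_contra hno
    rw [not_nonempty_iff_eq_empty] at hno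
    have := congrFun hexpC 1
    rw [hno, sum_empty, indFun_one, Pi.zero_apply, mul_eq_zero] at this
    rcases this with h | h
    · exact Subgroup.FiniteIndex.index_ne_zero (H := N) (Nat.cast_eq_zero.1 h)
    · exact IsIrr.one_ne_zero hχ h
  have hind : indFun N χ = (e ψ₀ : ℂ) • ∑ ψ ∈ C, (ψ : G → ℂ) := by
    rw [hexpC, smul_sum]
    exact sum_congr rfl fun ψ hψ => by rw [hdeg ψ₀ hψ₀ ψ hψ]
  refine ⟨e ψ₀, C, Nat.pos_of_ne_zero (mem_filter.1 hψ₀).2, ?_, hind, fun ψ hψ => ⟨?_, ?_⟩,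
    fun ψ h => mem_filter.2 ⟨mem_univ _, fun h0 => h (by rw [he, h0, Nat.cast_zero])⟩⟩
  · have h := classInner_indFun_self_of_invariant N hχ hinv
    rw [hind, CharBasic.classInner_smul_left, CharBasic.classInner_smul_right,
      CharBasic.classInner_sum_left] at h
    simp only [CharBasic.classInner_sum_right, CharBasic.classInner_irrCharacter, sum_ite_eq,
      map_natCast] at h
    rw [sum_congr rfl (fun ψ hψ => if_pos hψ), sum_const, nsmul_eq_mul, mul_one] at h
    apply Nat.cast_injective (R := ℂ)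
    push_cast
    linear_combination h
  · rw [he, hdeg ψ₀ hψ₀ ψ hψ]
  · have a := congrFun (hres ψ hψ) 1
    simp only [OneMemClass.coe_one, Pi.smul_apply, smul_eq_mul] at a
    rw [a, hdeg ψ₀ hψ₀ ψ hψ]

/-- Peterfalvi (1.7): inertia quotient abelian; multiplicity one if moreover coprime. -/
theorem clifford_abelian [Fintype N] {θ : N → ℂ} (hθ : Cfsg.IsIrrCharacter N θ)
    (hab : ∀ x ∈ inertia N θ, ∀ y ∈ inertia N θ, x * y * x⁻¹ * y⁻¹ ∈ N) :
    ∃ (e : ℕ) (C : Finset (G → ℂ)), 0 < e ∧ (∀ χ ∈ C, Cfsg.IsIrrCharacter G χ) ∧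
      e ^ 2 * C.card * Nat.card N = Nat.card (inertia N θ) ∧
      indFun N θ = (e : ℂ) • ∑ χ ∈ C, χ ∧
      (∀ χ ∈ C, χ 1 = ((inertia N θ).index : ℂ) * e * θ 1) ∧
      (Nat.Coprime (Nat.card N) (N.relIndex (inertia N θ)) → e = 1) := by
  classical
  set T := inertia N θ with hT
  have hle : N ≤ T := le_inertia N (IsIrr.isClassFunction hθ)
  haveI : Fintype T := Fintype.ofFinite T
  haveI : Fintype (N.subgroupOf T) := Fintype.ofFinite _
  let ε := Subgroup.subgroupOfEquivOfLe hle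
  let θ' : N.subgroupOf T → ℂ := fun n => θ (ε n)
  have hθ' : Cfsg.IsIrrCharacter (N.subgroupOf T) θ' := IsIrr.comp hθ ε.toMonoidHom ε.surjective
  have hinv : ∀ t : T, conjFun (N.subgroupOf T) θ' t = θ' := by
    intro t
    funext n
    refine Eq.trans ?_ (congrFun ((mem_inertia N).1 t.2) (ε n))
    exact congrArg θ (Subtype.ext rfl)
  obtain ⟨e, C₀, he, hcard, hind, hC₀, hall⟩ := invariant_structure (N.subgroupOf T)
    (fun x y => Subgroup.mem_subgroupOf.2 (hab x x.2 y y.2)) hθ' hinv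
  have hne : ∀ ψ ∈ C₀, Cfsg.classInner (resTo N hle (ψ : T → ℂ)) θ ≠ 0 := by
    intro ψ hψ
    rw [← classInner_comp_mulEquiv ε]
    exact ((hC₀ ψ hψ).1).symm ▸ Nat.cast_ne_zero.2 he.ne'
  have hcorr := fun ψ hψ => clifford_correspondence N hθ hle (ψ := (ψ : Cfsg.IrrCharacter T).1) ψ.2
    (hne ψ hψ)
  have hinj : Set.InjOn (fun ψ : Cfsg.IrrCharacter T => indFun T (ψ : T → ℂ)) C₀ :=
    fun ψ hψ ψ' hψ' h => Subtype.ext ((hcorr ψ' hψ').2.2 ψ ψ.2 (hne ψ hψ) h)
  refine ⟨e, C₀.image (fun ψ : Cfsg.IrrCharacter T => indFun T (ψ : T → ℂ)), he, ?_, ?_, ?_, ?_, fun hcop => ?_⟩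
  · intro χ hχ
    obtain ⟨ψ, hψ, rfl⟩ := mem_image.1 hχ
    exact (hcorr ψ hψ).1
  · rw [card_image_of_injOn hinj, hcard]
    show N.relIndex T * Nat.card N = Nat.card T
    rw [mul_comm, ← Subgroup.relIndex_bot_left N, ← Subgroup.relIndex_bot_left T]
    exact Subgroup.relIndex_mul_relIndex _ _ _ bot_le hle
  · rw [sum_image hinj, ← indFun_sum, ← indFun_smul, ← hind, ← indFun_indFun N T hle θ]
    rfl
  · intro χ hχ
    obtain ⟨ψ, hψ, rfl⟩ := mem_image.1 hχ
    rw [indFun_one, (hC₀ ψ hψ).2, show θ' 1 = θ 1 from congrArg θ ε.map_one, mul_assoc]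
  · haveI : Fintype (T ⧸ N.subgroupOf T) := Fintype.ofFinite _
    obtain ⟨η, hη, hηN⟩ := H26.HallExtend.exists_extension_hall (N.subgroupOf T)
      (by
        rw [Nat.card_congr ε.toEquiv]
        exact hcop) hθ' hinv
    have h1 : Cfsg.classInner (fun n : N.subgroupOf T => η n) θ' = 1 := by
      rw [show (fun n : N.subgroupOf T => η n) = θ' from funext hηN, classInner_irr_self hθ']
    have := (hC₀ ⟨η, hη⟩ (hall ⟨η, hη⟩ (by rw [h1]; exact one_ne_zero))).1
    rw [h1] at this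
    exact_mod_cast this.symm

end Cfsg.Agent.OddOrder.PF1
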